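import Cfsg.Agent.H112.Clif.Core
import Cfsg.Agent.H577.GLB.Clif

/-!
# Clifford theory for Brauer characters and a cyclic quotient (helper112, task 5172)

`clifford_cyclic`, `exists_over`, `over_unique`, `card_res` of `tools/plans/S4536_clif.lean`.
-/

set_option autoImplicit false
set_option linter.unusedSectionVars false
set_option linter.unusedVariables false

open Cfsg IsLocalRing Module Polynomial
open Cfsg.Agent.H657


namespace Cfsg.Agent.H112.Clif

open Cfsg.Agent.H577.GLB

universe u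

attribute [local instance] Above.isAlgClosed

section Char

variable {K : Type*} [Field K] [IsAlgClosed K] {G : Type*} [Group G] {N : Subgroup G} [N.Normal]
  {d : ℕ} {W : Type*} [AddCommGroup W] [Module K W] [FiniteDimensional K W]
  {t : G} {m : ℕ} {τ : Representation K N (Fin d → K)} {σ : Representation K G W}
  {f : (Fin d → K) →ₗ[K] W}

theorem Good.charpoly (h : Good t m τ σ f) (hσ : σ.IsIrreducible)
    (ht : ∀ g : G, ∃ s : ℕ, ∃ n ∈ N, g = t ^ s * n) (n : N) :
    LinearMap.charpoly (σ n) = ∏ s : Fin m, LinearMap.charpoly (cr (t ^ (s : ℕ)) τ n) := by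
  let e : (Fin m → (Fin d → K)) ≃ₗ[K] W := LinearEquiv.ofBijective (Phi t m σ f)
    ⟨h.Phi_inj, h.Phi_surj hσ ht⟩
  have he : ∀ u, e u = Phi t m σ f u := fun u => rfl
  have h1 : σ n = e.conj (LinearMap.pi fun s : Fin m => (cr (t ^ (s : ℕ)) τ n) ∘ₗ LinearMap.proj s) := by
    apply LinearMap.ext
    intro w
    obtain ⟨u, rfl⟩ := e.surjective w
    rw [LinearEquiv.conj_apply_apply, LinearEquiv.symm_apply_apply, he, he]
    exact (Phi_N h n u).symm
  rw [h1, LinearEquiv.charpoly_conj]
  have : Infinite K := IsAlgClosed.instInfinite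
  refine Polynomial.funext fun r => ?_
  rw [LinearMap.eval_charpoly, eval_prod]
  simp only [LinearMap.eval_charpoly]
  rw [← LinearMap.det_pi]
  congr 1

end Char

section Scalar

variable {K : Type*} [Field K] [IsAlgClosed K] {W : Type*} [AddCommGroup W] [Module K W] [FiniteDimensional K W]

theorem charpoly_smul_roots (c : K) (hc : c ≠ 0) (A : W →ₗ[K] W) :
    (LinearMap.charpoly (c • A)).roots = (LinearMap.charpoly A).roots.map (fun r => c * r) := by
  have hspl := (IsAlgClosed.splits (LinearMap.charpoly A)).eq_prod_roots_of_monic (LinearMap.charpoly_monic A)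
  have hcard : (LinearMap.charpoly A).roots.card = finrank K W := by
    rw [← LinearMap.charpoly_natDegree A]
    exact (IsAlgClosed.splits _).natDegree_eq_card_roots.symm
  have : Infinite K := IsAlgClosed.instInfinite
  have h1 : LinearMap.charpoly (c • A) =
      (((LinearMap.charpoly A).roots.map (fun r => c * r)).map fun r => X - C r).prod := by
    refine Polynomial.funext fun x => ?_
    rw [LinearMap.eval_charpoly]
    have h2 : algebraMap K (Module.End K W) x - c • A = c • (algebraMap K (Module.End K W) (c⁻¹ * x) - A) := by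
      rw [smul_sub]
      congr 1
      rw [Algebra.algebraMap_eq_smul_one, Algebra.algebraMap_eq_smul_one, smul_smul, ← mul_assoc,
        mul_inv_cancel₀ hc, one_mul]
    rw [h2, LinearMap.det_smul, ← LinearMap.eval_charpoly]
    conv_lhs => rw [hspl]
    rw [eval_multiset_prod, eval_multiset_prod, Multiset.map_map, Multiset.map_map, Multiset.map_map,
      ← hcard, ← Multiset.card_map (fun r => eval (c⁻¹ * x) (X - C r)), ← Multiset.prod_replicate]
    rw [← Multiset.map_const', Multiset.map_map, ← Multiset.prod_map_mul]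
    congr 1
    refine Multiset.map_congr rfl fun r _ => ?_
    simp only [Function.comp_apply, eval_sub, eval_X, eval_C]
    rw [mul_sub, ← mul_assoc, mul_inv_cancel₀ hc, one_mul]
  rw [h1, roots_multiset_prod_X_sub_C]

end Scalar

section Bc

variable {V : ValuationSubring ℂ} {p : ℕ} [Fact p.Prime] [CharP (ResidueField V) p]

omit [CharP (ResidueField V) p] in
theorem ru_mul {K : Type*} [Field K] {a b : K} (ha : IsRU p a) (hb : IsRU p b) : IsRU p (a * b) := by
  obtain ⟨m, hm, h1⟩ := ha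
  obtain ⟨n, hn, h2⟩ := hb
  refine ⟨m * n, fun h => ((Fact.out : p.Prime).dvd_mul.1 h).elim hm hn, ?_⟩
  rw [mul_pow, pow_mul, h1, one_pow, mul_comm m n, pow_mul, h2, one_pow, one_mul]

theorem lift_mul {a b : ResidueField V} (ha : IsRU p a) (hb : IsRU p b) :
    H657.lift p (a * b) = H657.lift p a * H657.lift p b := by
  obtain ⟨z, hz, rfl, hz'⟩ := lift_spec ha
  obtain ⟨w, hw, rfl, hw'⟩ := lift_spec hb
  rw [hz', hw', ← map_mul, lift_residue]
  · rfl
  · exact ru_mul hz hw

theorem lift_one' : H657.lift p (1 : ResidueField V) = 1 := by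
  have h : IsRU p (((1 : V) : V) : ℂ) := ⟨1, (Fact.out : p.Prime).one_lt.ne' ∘ Nat.dvd_one.1, by simp⟩
  have := lift_residue (p := p) h
  rwa [map_one] at this

theorem ru_ne_zero {K : Type*} [Field K] {a : K} (ha : IsRU p a) : a ≠ 0 := by
  rintro rfl
  obtain ⟨m, hm, h1⟩ := ha
  have hm0 : m ≠ 0 := fun h0 => hm (h0 ▸ dvd_zero p)
  rw [zero_pow hm0] at h1
  exact zero_ne_one h1

theorem bc_smul {G : Type*} [Group G] {W : Type*} [AddCommGroup W] [Module (ResidueField V) W]
    [FiniteDimensional (ResidueField V) W] (σ σ' : Representation (ResidueField V) G W)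
    {c : ResidueField V} (hc : IsRU p c) {g : G} (hg : IsPRegular p g) (h : σ' g = c • σ g) :
    bc p σ' g = H657.lift p c * bc p σ g := by
  unfold bc
  rw [h, charpoly_smul_roots c (ru_ne_zero hc), Multiset.map_map, ← Multiset.sum_map_mul_left]
  congr 1
  exact Multiset.map_congr rfl fun r hr => lift_mul hc (root_isRU σ hg hr)

end Bc

section Res

variable {V : ValuationSubring ℂ} {G : Type u} [Group G] [Finite G] {p : ℕ} {M : Ideal AlgInt}
  {N : Subgroup G} [N.Normal]

theorem exists_gen (hc : IsCyclic (G ⧸ N)) : ∃ t : G, (∀ g : G, ∃ s : ℕ, ∃ n ∈ N, g = t ^ s * n) ∧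
    ∀ x : G ⧸ N, x ∈ Subgroup.zpowers (t : G ⧸ N) := by
  obtain ⟨x, hx⟩ := hc.exists_generator
  obtain ⟨t, rfl⟩ := QuotientGroup.mk_surjective x
  refine ⟨t, fun g => ?_, hx⟩
  have h1 := (mem_powers_iff_mem_zpowers).2 (hx (g : G ⧸ N))
  obtain ⟨s, hs⟩ := h1
  have hs' : ((t ^ s : G) : G ⧸ N) = (g : G ⧸ N) := hs
  refine ⟨s, (t ^ s)⁻¹ * g, QuotientGroup.eq.1 hs', by group⟩

variable {t : G} {m d : ℕ} {τ : Representation (ResidueField V) N (Fin d → ResidueField V)}
  {W : Type*} [AddCommGroup W] [Module (ResidueField V) W] [FiniteDimensional (ResidueField V) W]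
  {σ : Representation (ResidueField V) G W} {f : (Fin d → ResidueField V) →ₗ[ResidueField V] W}

/-- the constituents -/
noncomputable def js (h : Good t m τ σ f) (s : Fin m) : IBr V N :=
  ⟨T τ (t ^ (s : ℕ)), d, cr (t ^ (s : ℕ)) τ, cr_irr _ h.irr, fun _ => rfl⟩

theorem js_inj (h : Good t m τ σ f) : Function.Injective (js h) := by
  intro s s' hs
  exact Fin.ext (T_inj τ h.min s.2 s'.2 (congrArg Subtype.val hs))

theorem js_mod (h : Good t m τ σ f) (s : ℕ) : ∃ s' : Fin m, (js h s').1 = T τ (t ^ s) :=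
  ⟨⟨s % m, Nat.mod_lt _ h.pos⟩, (T_mod τ h.per s).symm⟩

/-- the set of the constituents -/
noncomputable def Oset (h : Good t m τ σ f) : Finset (IBr V N) := Finset.univ.map ⟨js h, js_inj h⟩

theorem mem_Oset (h : Good t m τ σ f) {j : IBr V N} : j ∈ Oset h ↔ ∃ s, js h s = j := by
  simp [Oset]

theorem card_Oset (h : Good t m τ σ f) : (Oset h).card = m := by
  simp [Oset]

omit [Finite G] [N.Normal] in
theorem pReg_coe {x : N} : IsPRegular p (x : G) ↔ IsPRegular p x := by
  unfold IsPRegular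
  rw [Subgroup.orderOf_coe]

theorem isRes_Oset (h : Good t m τ σ f) (hσ : σ.IsIrreducible)
    (ht : ∀ g : G, ∃ s : ℕ, ∃ n ∈ N, g = t ^ s * n) (i : IBr V G)
    (hi : ∀ g, IsPRegular p g → phi p i g = bc p σ g) : IsRes p N i (Oset h) := by
  intro x
  rw [Oset, Finset.sum_map]
  simp only [Function.Embedding.coeFn_mk]
  by_cases hx : IsPRegular p (x : G)
  · rw [hi x hx]
    have h1 : ∀ s, phi p (js h s) x = bc p (cr (t ^ (s : ℕ)) τ) x := fun s =>
      phi_eq_bc (js h s) (cr (t ^ (s : ℕ)) τ) (cr_irr _ h.irr) (fun _ => rfl) (pReg_coe.1 hx)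
    simp only [h1]
    unfold bc
    rw [h.charpoly hσ ht, roots_prod _ _ (Finset.prod_ne_zero_iff.2 fun i _ =>
      (LinearMap.charpoly_monic _).ne_zero), Multiset.map_bind, Multiset.sum_bind]
    rfl
  · rw [phi_of_not i hx]
    symm
    exact Finset.sum_eq_zero fun s _ => phi_of_not _ (fun h1 => hx (pReg_coe.2 h1))

theorem res_unique (hM : IsPModular p M) (hV : Above M V) {i : IBr V G} {O O' : Finset (IBr V N)}
    (h : IsRes p N i O) (h' : IsRes p N i O') : O = O' := by
  classical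
  have : Fact p.Prime := ⟨hM.1⟩
  have : CharP (ResidueField V) p := hV.charP hM
  have := Fintype.ofFinite (IBr V N)
  have hlin := Fintype.linearIndependent_iff.1 (linearIndependent_phi (V := V) (G := N) (p := p))
    (fun j => (if j ∈ O then 1 else 0) - (if j ∈ O' then 1 else 0)) (by
      funext x
      rw [Finset.sum_apply, Pi.zero_apply]
      simp only [Pi.smul_apply, smul_eq_mul, sub_mul, ite_mul, one_mul, zero_mul]
      rw [Finset.sum_sub_distrib, Finset.sum_ite_mem, Finset.sum_ite_mem, Finset.univ_inter,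
        Finset.univ_inter, ← h x, ← h' x, sub_self])
  ext j
  have h1 := hlin j
  by_cases ha : j ∈ O <;> by_cases hb : j ∈ O' <;> simp_all

theorem phi_injective (hM : IsPModular p M) (hV : Above M V) {i i' : IBr V G} (h : phi p i = phi p i') :
    i = i' := by
  have : Fact p.Prime := ⟨hM.1⟩
  have : CharP (ResidueField V) p := hV.charP hM
  exact (linearIndependent_phi (V := V) (G := G) (p := p)).injective h

/-- a good embedding for each constituent of the restriction -/
theorem exists_data (σ : Representation (ResidueField V) G W) (hσ : σ.IsIrreducible) (t : G) :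
    ∃ (d m : ℕ) (τ : Representation (ResidueField V) N (Fin d → ResidueField V))
      (f : (Fin d → ResidueField V) →ₗ[ResidueField V] W), Good t m τ σ f := by
  have := irr_nontrivial hσ
  obtain ⟨d, τ, f₀, hτ, hf₀, hint⟩ := exists_irr_sub (rs N σ)
  obtain ⟨m, hm1, hm2, hm3⟩ := exists_per τ t
  have hnt := irr_nontrivial hτ
  obtain ⟨f, hf⟩ := exists_good σ hτ hm1 hm2 hm3 (f₀ := f₀) (by
    rintro rfl
    obtain ⟨a, b, hab⟩ := hnt
    exact hab (hf₀ rfl)) hint
  exact ⟨d, m, τ, f, hf⟩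

/-- the conjugate of a Brauer character -/
noncomputable def cjI (g : G) (j : IBr V N) : IBr V N :=
  ⟨fun x => j.1 (MulAut.conjNormal g x), j.deg, cr g⁻¹ j.rep, cr_irr _ j.rep_irr, fun x => by
    rw [cr_apply, inv_inv, j.trace_rep]⟩

theorem phi_cjI (g : G) (j : IBr V N) : phi p (cjI g j) = cj N g (phi p j) := by
  funext x
  have h1 : cj N g (phi p j) x = phi p j (MulAut.conjNormal g x) := by
    unfold cj
    congr 1
  rw [h1]
  have h2 : IsPRegular p (MulAut.conjNormal g x) ↔ IsPRegular p x := by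
    unfold IsPRegular
    rw [MulEquiv.orderOf_eq]
  by_cases hx : IsPRegular p x
  · rw [phi_of j (h2.2 hx), phi_eq_bc (cjI g j) (cr g⁻¹ j.rep) (cr_irr _ j.rep_irr) (fun x => by
      rw [cr_apply, inv_inv, j.trace_rep]; rfl) hx]
    unfold bc
    rw [cr_apply, inv_inv]
  · rw [phi_of_not _ hx, phi_of_not _ (fun h3 => hx (h2.1 h3))]

theorem cjI_js (h : Good t m τ σ f) (g : G) (s : Fin m) :
    (cjI g (js h s)).1 = T τ (g⁻¹ * t ^ (s : ℕ)) := by
  funext x
  rw [T_mul, inv_inv]
  rfl

/-- **P1.** -/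
theorem clifford_cyclic (hM : IsPModular p M) (hV : Above M V) (N : Subgroup G) [N.Normal]
    (hc : IsCyclic (G ⧸ N)) (i : IBr V G) :
    ∃ O : Finset (IBr V N), O.Nonempty ∧ IsRes p N i O ∧
      (∀ j ∈ O, ∀ g : G, ∃ j' ∈ O, phi p j' = cj N g (phi p j)) ∧
      (∀ j ∈ O, ∀ j' ∈ O, ∃ g : G, phi p j' = cj N g (phi p j)) := by
  obtain ⟨t, ht, -⟩ := exists_gen hc
  obtain ⟨d, m, τ, f, h⟩ := exists_data (N := N) i.rep i.rep_irr t
  refine ⟨Oset h, ?_, isRes_Oset h i.rep_irr ht i (fun g hg => phi_of i hg), ?_, ?_⟩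
  · exact ⟨js h ⟨0, h.pos⟩, (mem_Oset h).2 ⟨_, rfl⟩⟩
  · intro j hj g
    obtain ⟨s, rfl⟩ := (mem_Oset h).1 hj
    obtain ⟨s'', n, hn, hgn⟩ := ht (g⁻¹ * t ^ (s : ℕ))
    obtain ⟨s', hs'⟩ := js_mod h s''
    refine ⟨js h s', (mem_Oset h).2 ⟨_, rfl⟩, ?_⟩
    rw [← phi_cjI]
    congr 1
    apply Subtype.ext
    rw [hs', cjI_js, hgn, T_right τ (T_mem τ hn)]
  · intro j hj j' hj'
    obtain ⟨s, rfl⟩ := (mem_Oset h).1 hj
    obtain ⟨s', rfl⟩ := (mem_Oset h).1 hj'
    refine ⟨t ^ (s : ℕ) * (t ^ (s' : ℕ))⁻¹, ?_⟩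
    rw [← phi_cjI]
    congr 1
    apply Subtype.ext
    rw [cjI_js, mul_inv_rev, inv_inv, mul_assoc, inv_mul_cancel, mul_one]
    rfl

/-- intertwining maps on `N` between a component and an irreducible representation of `N` -/
theorem comp_of_map {K : Type*} [Field K] [IsAlgClosed K] {t : G} {m d d' : ℕ}
    {τ : Representation K N (Fin d → K)} {W : Type*} [AddCommGroup W] [Module K W]
    {σ : Representation K G W} {f : (Fin d → K) →ₗ[K] W} (h : Good t m τ σ f) (hσ : σ.IsIrreducible)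
    (ht : ∀ g : G, ∃ s : ℕ, ∃ n ∈ N, g = t ^ s * n) {ρ : Representation K N (Fin d' → K)}
    (hρ : ρ.IsIrreducible) {F : W →ₗ[K] (Fin d' → K)} (hF : ∀ (n : N) w, F (σ n w) = ρ n (F w)) (h0 : F ≠ 0) :
    ∃ s : Fin m, ∀ n, LinearMap.trace K _ (cr (t ^ (s : ℕ)) τ n) = LinearMap.trace K _ (ρ n) := by
  classical
  have hex : ∃ s : Fin m, F ∘ₗ (σ (t ^ (s : ℕ))) ∘ₗ f ≠ 0 := by
    by_contra hcon
    push Not at hcon
    apply h0
    apply LinearMap.ext
    intro w
    obtain ⟨u, rfl⟩ := h.Phi_surj hσ ht w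
    rw [Phi_apply, map_sum, LinearMap.zero_apply]
    exact Finset.sum_eq_zero fun s _ => LinearMap.congr_fun (hcon s) (u s)
  obtain ⟨s, hs⟩ := hex
  have hint : ∀ (n : N) u, (F ∘ₗ (σ (t ^ (s : ℕ))) ∘ₗ f) (cr (t ^ (s : ℕ)) τ n u) =
      ρ n ((F ∘ₗ (σ (t ^ (s : ℕ))) ∘ₗ f) u) := by
    intro n u
    change F (σ (t ^ (s : ℕ)) (f (cr (t ^ (s : ℕ)) τ n u))) = ρ n (F (σ (t ^ (s : ℕ)) (f u)))
    rw [cr_sub h.int, hF]
  have hb : Function.Bijective (F ∘ₗ (σ (t ^ (s : ℕ))) ∘ₗ f) :=
    ⟨inj_of_irr (cr_irr _ h.irr) hint hs, surj_of_irr hρ hint hs⟩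
  let e := LinearEquiv.ofBijective _ hb
  refine ⟨s, fun n => ?_⟩
  have h1 : ρ n = e.conj (cr (t ^ (s : ℕ)) τ n) := by
    apply LinearMap.ext
    intro v
    obtain ⟨u, rfl⟩ := e.surjective v
    rw [LinearEquiv.conj_apply_apply, LinearEquiv.symm_apply_apply]
    exact (hint n u).symm
  rw [h1, LinearMap.trace_conj']

/-- the coinduced representation -/
def Coind (N : Subgroup G) {K : Type*} [Field K] {U : Type*} [AddCommGroup U] [Module K U]
    (τ : Representation K N U) : Submodule K (G → U) where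
  carrier := {F | ∀ (n : N) (g : G), F (n * g) = τ n (F g)}
  zero_mem' := by intro n g; simp
  add_mem' := by
    intro a b ha hb n g
    rw [Pi.add_apply, Pi.add_apply, ha, hb, map_add]
  smul_mem' := by
    intro c a ha n g
    rw [Pi.smul_apply, Pi.smul_apply, ha, map_smul]

/-- right translation -/
def coindRep (N : Subgroup G) {K : Type*} [Field K] {U : Type*} [AddCommGroup U] [Module K U]
    (τ : Representation K N U) : Representation K G (Coind N τ) where
  toFun g :=
    { toFun := fun F => ⟨fun x => F.1 (x * g), fun n x => by beta_reduce; rw [mul_assoc]; exact F.2 n (x * g)⟩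
      map_add' := fun _ _ => rfl
      map_smul' := fun _ _ => rfl }
  map_one' := by
    ext F x
    simp
  map_mul' g h := by
    ext F x
    simp [mul_assoc]

theorem coindRep_apply {K : Type*} [Field K] {U : Type*} [AddCommGroup U] [Module K U]
    (τ : Representation K N U) (g : G) (F : Coind N τ) (x : G) : (coindRep N τ g F).1 x = F.1 (x * g) := rfl

theorem coind_nontrivial {K : Type*} [Field K] {U : Type*} [AddCommGroup U] [Module K U] [Nontrivial U]
    (τ : Representation K N U) : Nontrivial (Coind N τ) := by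
  classical
  obtain ⟨u, hu⟩ := exists_ne (0 : U)
  refine ⟨⟨⟨fun g => if hg : g ∈ N then τ ⟨g, hg⟩ u else 0, fun n g => ?_⟩, 0, fun h => hu ?_⟩⟩
  · beta_reduce
    by_cases hg : g ∈ N
    · rw [dif_pos hg, dif_pos (N.mul_mem n.2 hg), ← Module.End.mul_apply, ← map_mul]
      rfl
    · rw [dif_neg hg, dif_neg (fun h => hg (by simpa using N.mul_mem (N.inv_mem n.2) h)), map_zero]
  · have h1 := congrFun (congrArg Subtype.val h) 1
    simp only [dif_pos N.one_mem] at h1
    have h2 : (⟨1, N.one_mem⟩ : N) = 1 := rfl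
    rw [h2, map_one] at h1
    exact h1

/-- **P1'.** -/
theorem exists_over (hM : IsPModular p M) (hV : Above M V) (N : Subgroup G) [N.Normal]
    (hc : IsCyclic (G ⧸ N)) (j : IBr V N) :
    ∃ (i : IBr V G) (O : Finset (IBr V N)), IsRes p N i O ∧ j ∈ O := by
  have := Fintype.ofFinite G
  obtain ⟨t, ht, -⟩ := exists_gen hc
  have := irr_nontrivial j.rep_irr
  have := coind_nontrivial j.rep
  obtain ⟨d', σ, f', hσ, hf', hint'⟩ := exists_irr_sub (coindRep N j.rep)
  let i : IBr V G := ⟨fun g => LinearMap.trace _ _ (σ g), d', σ, hσ, fun _ => rfl⟩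
  obtain ⟨d, m, τ, f, h⟩ := exists_data (N := N) σ hσ t
  refine ⟨i, Oset h, isRes_Oset h hσ ht i (fun g hg => phi_eq_bc i σ hσ (fun _ => rfl) hg), ?_⟩
  let F : (Fin d' → ResidueField V) →ₗ[ResidueField V] (Fin j.deg → ResidueField V) :=
    { toFun := fun w => (f' w).1 1
      map_add' := fun a b => by rw [map_add]; rfl
      map_smul' := fun c a => by rw [map_smul]; rfl }
  have hFa : ∀ w, F w = (f' w).1 1 := fun _ => rfl
  have hF : ∀ (n : N) w, F (σ n w) = j.rep n (F w) := by
    intro n w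
    rw [hFa, hint', coindRep_apply, one_mul, hFa, ← (f' w).2 n 1, mul_one]
  have h0 : F ≠ 0 := by
    intro hF0
    have hnt := irr_nontrivial hσ
    obtain ⟨w, hw⟩ := exists_ne (0 : Fin d' → ResidueField V)
    apply hw
    apply hf'
    rw [map_zero]
    apply Subtype.ext
    funext x
    have h1 := LinearMap.congr_fun hF0 (σ x w)
    rw [hFa, hint', coindRep_apply, one_mul] at h1
    exact h1
  obtain ⟨s, hs⟩ := comp_of_map h hσ ht j.rep_irr hF h0
  refine (mem_Oset h).2 ⟨s, ?_⟩
  apply Subtype.ext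
  funext x
  exact (hs x).trans (j.trace_rep x)

/-! ### twisting by linear characters -/

section Tw

variable {K : Type*} [Field K] {W : Type*} [AddCommGroup W] [Module K W] {W' : Type*} [AddCommGroup W'] [Module K W']

/-- the twist by a linear character -/
def tw (c : G →* K) (σ : Representation K G W) : Representation K G W where
  toFun g := c g • σ g
  map_one' := by simp
  map_mul' g h := by
    rw [map_mul, map_mul, smul_mul_smul_comm]

theorem tw_apply (c : G →* K) (σ : Representation K G W) (g : G) : tw c σ g = c g • σ g := rfl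

theorem c_ne_zero (c : G →* K) (g : G) : c g ≠ 0 := by
  intro h
  have h1 : c g * c g⁻¹ = 1 := by rw [← map_mul, mul_inv_cancel, map_one]
  rw [h, zero_mul] at h1
  exact zero_ne_one h1

theorem tw_irr (c : G →* K) {σ : Representation K G W} (h : σ.IsIrreducible) : (tw c σ).IsIrreducible := by
  have := irr_nontrivial h
  apply irr_of
  intro A hA
  apply irr_sub h A
  intro g w hw
  have h1 := A.smul_mem (c g)⁻¹ (hA g w hw)
  rw [tw_apply, LinearMap.smul_apply, smul_smul, inv_mul_cancel₀ (c_ne_zero c g), one_smul] at h1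
  exact h1

/-- two irreducible representations with a common constituent on `N` differ by a linear character -/
theorem exists_twist [IsAlgClosed K] [FiniteDimensional K W] [FiniteDimensional K W'] {N : Subgroup G} [N.Normal]
    {t : G} (ht : ∀ g : G, ∃ s : ℕ, ∃ n ∈ N, g = t ^ s * n)
    (σ : Representation K G W) (σ' : Representation K G W') {F₀ : W →ₗ[K] W'} (h0 : F₀ ≠ 0)
    (hF₀ : ∀ (n : N) w, F₀ (σ n w) = σ' n (F₀ w)) :
    ∃ (F : W →ₗ[K] W') (c : G →* K), F ≠ 0 ∧ (∀ g w, F (tw c σ g w) = σ' g (F w)) ∧ ∀ n ∈ N, c n = 1 := by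
  let E : Submodule K (W →ₗ[K] W') :=
    { carrier := {F | ∀ (n : N) w, F (σ n w) = σ' n (F w)}
      zero_mem' := by intro n u; simp
      add_mem' := by
        intro a b ha hb n u
        rw [LinearMap.add_apply, LinearMap.add_apply, ha, hb, map_add]
      smul_mem' := by
        intro c a ha n u
        rw [LinearMap.smul_apply, LinearMap.smul_apply, ha, map_smul] }
  let Θ : (W →ₗ[K] W') →ₗ[K] (W →ₗ[K] W') :=
    { toFun := fun F => (σ' t) ∘ₗ F ∘ₗ (σ t⁻¹)
      map_add' := by intro a b; ext u; simp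
      map_smul' := by intro c a; ext u; simp }
  have hΘ : ∀ F w, Θ F w = σ' t (F (σ t⁻¹ w)) := fun F w => rfl
  have hΘE : ∀ F ∈ E, Θ F ∈ E := by
    intro F hF n w
    rw [hΘ, hΘ]
    have h1 : σ t⁻¹ (σ n w) = σ (MulAut.conjNormal t⁻¹ n : N) (σ t⁻¹ w) := by
      rw [← Module.End.mul_apply, ← Module.End.mul_apply, ← map_mul, ← map_mul, MulAut.conjNormal_apply]
      congr 2
      group
    rw [h1, hF, ← Module.End.mul_apply, ← Module.End.mul_apply, ← map_mul, ← map_mul, MulAut.conjNormal_apply]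
    congr 2
    group
  have : Nontrivial E := ⟨⟨⟨F₀, hF₀⟩, 0, fun h => h0 (congrArg Subtype.val h)⟩⟩
  obtain ⟨b, hb⟩ := Module.End.exists_eigenvalue (Θ.restrict hΘE)
  obtain ⟨v, hv⟩ := hb.exists_hasEigenvector
  set F := v.1 with hF
  have hF0 : F ≠ 0 := fun h => hv.2 (Subtype.ext h)
  have hFN : ∀ (n : N) w, F (σ n w) = σ' n (F w) := v.2
  have hFt : ∀ w, σ' t (F w) = b • F (σ t w) := by
    intro w
    have h3 : Θ F = b • F := congrArg Subtype.val hv.apply_eq_smul
    have h4 := LinearMap.congr_fun h3 (σ t w)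
    rw [hΘ, ← Module.End.mul_apply (σ t⁻¹), ← map_mul, inv_mul_cancel, map_one, Module.End.one_apply] at h4
    exact h4
  have hex : ∀ g : G, ∃ c : K, ∀ w, σ' g (F w) = c • F (σ g w) := by
    have h5 : ∀ s : ℕ, ∀ w, σ' (t ^ s) (F w) = b ^ s • F (σ (t ^ s) w) := by
      intro s
      induction s with
      | zero => intro w; simp
      | succ s ih =>
        intro w
        rw [pow_succ, map_mul, Module.End.mul_apply, hFt, map_smul, ih, smul_smul, map_mul,
          Module.End.mul_apply, pow_succ, mul_comm]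
    intro g
    obtain ⟨s, n, hn, rfl⟩ := ht g
    refine ⟨b ^ s, fun w => ?_⟩
    rw [map_mul, Module.End.mul_apply, ← hFN ⟨n, hn⟩, h5, map_mul, Module.End.mul_apply]
  choose c hc using hex
  have huniq : ∀ (g : G) (a a' : K), (∀ w, a • F (σ g w) = a' • F (σ g w)) → a = a' := by
    intro g a a' h
    by_contra hne
    apply hF0
    apply LinearMap.ext
    intro w
    have h6 := h (σ g⁻¹ w)
    rw [← Module.End.mul_apply (σ g), ← map_mul, mul_inv_cancel, map_one, Module.End.one_apply,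
      ← sub_eq_zero, ← sub_smul] at h6
    rcases smul_eq_zero.1 h6 with h7 | h7
    · exact absurd (sub_eq_zero.1 h7) hne
    · exact h7
  let c' : G →* K :=
    { toFun := c
      map_one' := huniq 1 _ _ fun w => by rw [← hc]; simp
      map_mul' := fun g h => huniq (g * h) _ _ fun w => by
        rw [← hc, map_mul, Module.End.mul_apply, hc h, map_smul, hc g, smul_smul, map_mul,
          Module.End.mul_apply, mul_comm] }
  refine ⟨F, c', hF0, fun g w => ?_, fun n hn => huniq n _ _ fun w => ?_⟩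
  · rw [tw_apply, LinearMap.smul_apply, map_smul]
    exact (hc g w).symm
  · change c n • F (σ n w) = _
    rw [← hc, one_smul, hFN ⟨n, hn⟩ w]

theorem c_ru [CharP K p] [Fact p.Prime] (c : G →* K) (g : G) : IsRU p (c g) := by
  obtain ⟨a, r, hr, hg⟩ := Nat.exists_eq_pow_mul_and_not_dvd (orderOf_pos g).ne' p (Fact.out : p.Prime).ne_one
  refine ⟨r, hr, ?_⟩
  have h1 : c g ^ (p ^ a * r) = 1 := by rw [← hg, ← map_pow, pow_orderOf_eq_one, map_one]
  have : ExpChar K p := ExpChar.prime (Fact.out : p.Prime)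
  exact (ExpChar.pow_prime_pow_mul_eq_one_iff p a r (c g)).1 h1

end Tw

theorem phi_twist [Fact p.Prime] [CharP (ResidueField V) p] {i i' : IBr V G} (c : G →* ResidueField V)
    {F : (Fin i.deg → ResidueField V) →ₗ[ResidueField V] (Fin i'.deg → ResidueField V)} (h0 : F ≠ 0)
    (hF : ∀ g w, F (tw c i.rep g w) = i'.rep g (F w)) (g : G) :
    phi p i' g = H657.lift p (c g) * phi p i g := by
  by_cases hg : IsPRegular p g
  · rw [phi_of _ hg, phi_of _ hg, ← bc_smul i.rep (tw c i.rep) (c_ru c g) hg (tw_apply c i.rep g)]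
    exact (bc_equiv p _ _ (LinearEquiv.ofBijective F
      ⟨inj_of_irr (tw_irr c i.rep_irr) hF h0, surj_of_irr i'.rep_irr hF h0⟩) hF g).symm
  · rw [phi_of_not _ hg, phi_of_not _ hg, mul_zero]

/-- the lift of a linear character with values in the residue field -/
noncomputable def liftHom [Fact p.Prime] [CharP (ResidueField V) p] (c : G →* ResidueField V) : G →* ℂˣ :=
  MonoidHom.toHomUnits
    { toFun := fun g => H657.lift p (c g)
      map_one' := by rw [map_one]; exact lift_one'
      map_mul' := fun g h => by rw [map_mul]; exact lift_mul (c_ru c g) (c_ru c h) }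

theorem liftHom_apply [Fact p.Prime] [CharP (ResidueField V) p] (c : G →* ResidueField V) (g : G) :
    ((liftHom (p := p) c g : ℂˣ) : ℂ) = H657.lift p (c g) := rfl

/-- **P1''.** -/
theorem over_unique (hM : IsPModular p M) (hV : Above M V) (N : Subgroup G) [N.Normal]
    (hc : IsCyclic (G ⧸ N)) (j : IBr V N) (i i' : IBr V G) (O O' : Finset (IBr V N))
    (h : IsRes p N i O) (h' : IsRes p N i' O') (hj : j ∈ O) (hj' : j ∈ O') :
    ∃ l : G →* ℂˣ, (∀ x ∈ N, l x = 1) ∧ phi p i' = fun g => (l g : ℂ) * phi p i g := by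
  classical
  have : Fact p.Prime := ⟨hM.1⟩
  have : CharP (ResidueField V) p := hV.charP hM
  obtain ⟨t, ht, -⟩ := exists_gen hc
  obtain ⟨d, m, τ, f, hg⟩ := exists_data (N := N) i.rep i.rep_irr t
  obtain ⟨d', m', τ', f', hg'⟩ := exists_data (N := N) i'.rep i'.rep_irr t
  rw [res_unique hM hV h (isRes_Oset hg i.rep_irr ht i (fun g hg => phi_of i hg))] at hj
  rw [res_unique hM hV h' (isRes_Oset hg' i'.rep_irr ht i' (fun g hg => phi_of i' hg))] at hj'
  obtain ⟨s, hs⟩ := (mem_Oset hg).1 hj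
  obtain ⟨s', hs'⟩ := (mem_Oset hg').1 hj'
  -- an isomorphism of the two components
  obtain ⟨e, he⟩ := equiv_of_trace (cr (t ^ (s : ℕ)) τ) (cr (t ^ (s' : ℕ)) τ') (cr_irr _ hg.irr) (cr_irr _ hg'.irr)
    (fun n => by
      have h1 : T τ (t ^ (s : ℕ)) = T τ' (t ^ (s' : ℕ)) := by
        rw [show T τ (t ^ (s : ℕ)) = (js hg s).1 from rfl, show T τ' (t ^ (s' : ℕ)) = (js hg' s').1 from rfl, hs, hs']
      exact congrFun h1 n)
  let E : (Fin m → (Fin d → ResidueField V)) ≃ₗ[ResidueField V] (Fin i.deg → ResidueField V) :=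
    LinearEquiv.ofBijective (Phi t m i.rep f) ⟨hg.Phi_inj, hg.Phi_surj i.rep_irr ht⟩
  let F₀ : (Fin i.deg → ResidueField V) →ₗ[ResidueField V] (Fin i'.deg → ResidueField V) :=
    (i'.rep (t ^ (s' : ℕ))) ∘ₗ f' ∘ₗ e.toLinearMap ∘ₗ LinearMap.proj s ∘ₗ E.symm.toLinearMap
  have hF₀a : ∀ u, F₀ (Phi t m i.rep f u) = i'.rep (t ^ (s' : ℕ)) (f' (e (u s))) := by
    intro u
    change i'.rep (t ^ (s' : ℕ)) (f' (e ((E.symm (E u)) s))) = _
    rw [LinearEquiv.symm_apply_apply]
  have hF₀ : ∀ (n : N) w, F₀ (i.rep n w) = i'.rep n (F₀ w) := by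
    intro n w
    obtain ⟨u, rfl⟩ := hg.Phi_surj i.rep_irr ht w
    rw [← Phi_N hg, hF₀a, hF₀a, he, cr_sub hg'.int]
  have h0 : F₀ ≠ 0 := by
    intro h00
    have hnt := irr_nontrivial hg.irr
    obtain ⟨u, hu⟩ := exists_ne (0 : Fin d → ResidueField V)
    apply hu
    have h1 := LinearMap.congr_fun h00 (Phi t m i.rep f (Pi.single s u))
    rw [hF₀a, Pi.single_eq_same, LinearMap.zero_apply] at h1
    have h2 := sig_inj _ _ h1
    exact e.injective (hg'.inj (by rw [h2, map_zero, map_zero]))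
  obtain ⟨F, c, hF0, hF, hcN⟩ := exists_twist ht i.rep i'.rep h0 hF₀
  refine ⟨liftHom (p := p) c, fun x hx => ?_, ?_⟩
  · apply Units.ext
    rw [liftHom_apply, hcN x hx, lift_one']
    rfl
  · funext g
    rw [liftHom_apply]
    exact phi_twist c hF0 hF g

/-! ### the number of constituents -/

section Fix

variable {K : Type*} [Field K] [IsAlgClosed K] {t : G} {m d n : ℕ} {τ : Representation K N (Fin d → K)}
  {σ : Representation K G (Fin n → K)} {f : (Fin d → K) →ₗ[K] (Fin n → K)}

theorem one_dim (h : Good t m τ σ f) (hσ : σ.IsIrreducible)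
    (ht : ∀ g : G, ∃ s : ℕ, ∃ n ∈ N, g = t ^ s * n) {F : (Fin d → K) →ₗ[K] (Fin n → K)}
    (hF : ∀ (n : N) u, F (τ n u) = σ n (F u)) : ∃ κ : K, ∀ u, F u = κ • f u := by
  classical
  let E : (Fin m → (Fin d → K)) ≃ₗ[K] (Fin n → K) :=
    LinearEquiv.ofBijective (Phi t m σ f) ⟨h.Phi_inj, h.Phi_surj hσ ht⟩
  have hE : ∀ u, E u = Phi t m σ f u := fun _ => rfl
  have hEs : ∀ (n : N) w, E.symm (σ n w) = fun s : Fin m => cr (t ^ (s : ℕ)) τ n (E.symm w s) := by
    intro n w
    rw [LinearEquiv.symm_apply_eq, hE, Phi_N h, ← hE, LinearEquiv.apply_symm_apply]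
  let c : Fin m → ((Fin d → K) →ₗ[K] (Fin d → K)) := fun s => LinearMap.proj s ∘ₗ E.symm.toLinearMap ∘ₗ F
  have hc : ∀ s u, c s u = E.symm (F u) s := fun _ _ => rfl
  have hcint : ∀ s (n : N) u, c s (τ n u) = cr (t ^ (s : ℕ)) τ n (c s u) := by
    intro s n u
    rw [hc, hF, hEs, hc]
  have hc0 : ∀ s : Fin m, (s : ℕ) ≠ 0 → c s = 0 := by
    intro s hs
    by_contra h0
    have hb : Function.Bijective (c s) :=
      ⟨inj_of_irr h.irr (hcint s) h0, surj_of_irr (cr_irr _ h.irr) (hcint s) h0⟩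
    let e := LinearEquiv.ofBijective _ hb
    apply h.min s (Nat.pos_of_ne_zero hs) s.2
    funext x
    rw [T, T]
    have h1 : cr (t ^ (s : ℕ)) τ x = e.conj (cr (1 : G) τ x) := by
      apply LinearMap.ext
      intro v
      obtain ⟨u, rfl⟩ := e.surjective v
      rw [LinearEquiv.conj_apply_apply, LinearEquiv.symm_apply_apply, cr_apply (1 : G), inv_one, map_one,
        MulAut.one_apply]
      exact (hcint s x u).symm
    rw [h1, LinearMap.trace_conj']
  obtain ⟨κ, hκ⟩ := schur h.irr (f := c ⟨0, h.pos⟩) (fun n u => by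
    rw [hcint, cr_apply, pow_zero, inv_one, map_one, MulAut.one_apply])
  refine ⟨κ, fun u => ?_⟩
  have h2 : E.symm (F u) = Pi.single ⟨0, h.pos⟩ (κ • u) := by
    funext s
    by_cases hs : (s : ℕ) = 0
    · have hs' : s = ⟨0, h.pos⟩ := Fin.ext hs
      rw [hs', Pi.single_eq_same, ← hκ u]
      rfl
    · rw [Pi.single_eq_of_ne (fun h3 => hs (by rw [h3])), ← hc, hc0 s hs, LinearMap.zero_apply]
  rw [LinearEquiv.symm_apply_eq, hE, Phi_single] at h2
  rw [h2]
  simp

theorem fix_iff (h : Good t m τ σ f) (hσ : σ.IsIrreducible)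
    (ht : ∀ g : G, ∃ s : ℕ, ∃ n ∈ N, g = t ^ s * n) (c : G →* K) (hcN : ∀ n ∈ N, c n = 1) :
    (∀ g, c g * LinearMap.trace K _ (σ g) = LinearMap.trace K _ (σ g)) ↔ c t ^ m = 1 := by
  classical
  constructor
  · intro hfix
    obtain ⟨e, he⟩ := equiv_of_trace (tw c σ) σ (tw_irr c hσ) hσ (fun g => by
      rw [tw_apply, map_smul, smul_eq_mul, hfix])
    obtain ⟨κ, hκ⟩ := one_dim h hσ ht (F := e.toLinearMap ∘ₗ f) (fun n u => by
      change e (f (τ n u)) = σ n (e (f u))
      rw [h.int, ← he, tw_apply, hcN n n.2, one_smul])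
    have hκ' : ∀ u, e (f u) = κ • f u := hκ
    have hnt := irr_nontrivial h.irr
    obtain ⟨u, hu⟩ := exists_ne (0 : Fin d → K)
    have hfu : f u ≠ 0 := fun h0 => hu (h.inj (by rw [h0, map_zero]))
    have hκ0 : κ ≠ 0 := by
      rintro rfl
      apply hfu
      apply e.injective
      rw [hκ', zero_smul, map_zero]
    obtain ⟨u', hu'⟩ := h.inv u
    have h1 := he (t ^ m) (f u)
    rw [tw_apply, LinearMap.smul_apply, map_smul, hu', hκ', hκ', map_smul, hu', map_pow] at h1
    have h2 : f u' ≠ 0 := by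
      rw [← hu']
      exact fun h0 => hfu (sig_inj _ _ h0)
    rw [smul_smul, ← sub_eq_zero, ← sub_smul] at h1
    rcases smul_eq_zero.1 h1 with h3 | h3
    · have h4 : (c t ^ m - 1) * κ = 0 := by rw [sub_mul, one_mul, h3]
      rcases mul_eq_zero.1 h4 with h5 | h5
      · exact sub_eq_zero.1 h5
      · exact absurd h5 hκ0
    · exact absurd h3 h2
  · intro hcm
    let E : (Fin m → (Fin d → K)) ≃ₗ[K] (Fin n → K) :=
      LinearEquiv.ofBijective (Phi t m σ f) ⟨h.Phi_inj, h.Phi_surj hσ ht⟩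
    have hE : ∀ u, E u = Phi t m σ f u := fun _ => rfl
    let D : (Fin m → (Fin d → K)) →ₗ[K] (Fin m → (Fin d → K)) :=
      LinearMap.pi fun s => (c t ^ (s : ℕ)) • LinearMap.proj s
    have hD : ∀ u s, D u s = c t ^ (s : ℕ) • u s := fun _ _ => rfl
    have hDinj : Function.Injective D := by
      rw [← LinearMap.ker_eq_bot, LinearMap.ker_eq_bot']
      intro u hu
      funext s
      have h1 := congrFun hu s
      rw [hD] at h1
      exact (smul_eq_zero.1 h1).resolve_left (pow_ne_zero _ (c_ne_zero c t))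
    let F : (Fin n → K) →ₗ[K] (Fin n → K) := E.toLinearMap ∘ₗ D ∘ₗ E.symm.toLinearMap
    have hF : ∀ u, F (Phi t m σ f u) = Phi t m σ f (D u) := by
      intro u
      change E (D (E.symm (E u))) = _
      rw [LinearEquiv.symm_apply_apply, hE]
    have hFs : ∀ (s : Fin m) (u : Fin d → K), F (σ (t ^ (s : ℕ)) (f u)) = c t ^ (s : ℕ) • σ (t ^ (s : ℕ)) (f u) := by
      intro s u
      rw [← Phi_single (m := m), hF, ← map_smul]
      congr 1
      funext s'
      rw [hD, Pi.smul_apply]
      by_cases hs : s' = s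
      · rw [hs]
      · rw [Pi.single_eq_of_ne hs, smul_zero, smul_zero]
    have hFn : ∀ (n : N) w, F (σ n w) = σ n (F w) := by
      intro n w
      obtain ⟨u, rfl⟩ := h.Phi_surj hσ ht w
      rw [← Phi_N h, hF, hF, ← Phi_N h]
      congr 1
      funext s
      rw [hD, hD, map_smul]
    have hFt : ∀ w, F (σ t w) = c t • σ t (F w) := by
      intro w
      obtain ⟨u, rfl⟩ := h.Phi_surj hσ ht w
      rw [Phi_apply]
      simp only [map_sum, Finset.smul_sum]
      refine Finset.sum_congr rfl fun s _ => ?_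
      rw [hFs, map_smul, smul_smul, ← pow_succ', ← Module.End.mul_apply (σ t), ← map_mul σ, ← pow_succ']
      by_cases hs : (s : ℕ) + 1 < m
      · exact hFs ⟨s + 1, hs⟩ (u s)
      · have hs' : (s : ℕ) + 1 = m := by have := s.2; omega
        rw [hs', hcm, one_smul]
        obtain ⟨u', hu'⟩ := h.inv (u s)
        rw [hu']
        have h1 := hFs ⟨0, h.pos⟩ u'
        simpa using h1
    have hFts : ∀ (s : ℕ) w, F (σ (t ^ s) w) = c t ^ s • σ (t ^ s) (F w) := by
      intro s
      induction s with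
      | zero => intro w; simp
      | succ s ih =>
        intro w
        rw [pow_succ, map_mul, Module.End.mul_apply, ih, hFt, map_smul, smul_smul, Module.End.mul_apply,
          pow_succ]
    have hFinj : Function.Injective F := by
      intro a b hab
      have h1 : E (D (E.symm a)) = E (D (E.symm b)) := hab
      exact E.symm.injective (hDinj (E.injective h1))
    let e := LinearEquiv.ofInjectiveEndo F hFinj
    have he : ∀ w, e w = F w := fun _ => rfl
    intro g
    obtain ⟨s, x, hx, rfl⟩ := ht g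
    have h1 : c (t ^ s * x) • σ (t ^ s * x) = e.conj (σ (t ^ s * x)) := by
      apply LinearMap.ext
      intro v
      obtain ⟨w, rfl⟩ := e.surjective v
      rw [LinearEquiv.conj_apply_apply, LinearEquiv.symm_apply_apply, he, he, LinearMap.smul_apply,
        map_mul σ, Module.End.mul_apply, Module.End.mul_apply, hFts, hFn ⟨x, hx⟩, map_mul, hcN x hx, mul_one,
        map_pow]
    have h2 := congrArg (LinearMap.trace K _) h1
    rw [LinearMap.trace_conj', map_smul, smul_eq_mul] at h2
    exact h2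

end Fix

/-- **P1, number of constituents.** -/
theorem card_res (hM : IsPModular p M) (hV : Above M V) (N : Subgroup G) [N.Normal]
    (hc : IsCyclic (G ⧸ N)) (hi : (Nat.card (G ⧸ N)).Coprime p) (i : IBr V G) (O : Finset (IBr V N))
    (h : IsRes p N i O) :
    O.card = Nat.card {l : G →* ℂˣ // (∀ x ∈ N, l x = 1) ∧ (fun g => (l g : ℂ) * phi p i g) = phi p i} := by
  classical
  have : Fact p.Prime := ⟨hM.1⟩
  have : CharP (ResidueField V) p := hV.charP hM
  obtain ⟨t, ht, htg⟩ := exists_gen hc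
  obtain ⟨d, m, τ, f, hg⟩ := exists_data (N := N) i.rep i.rep_irr t
  rw [res_unique hM hV h (isRes_Oset hg i.rep_irr ht i (fun g hg => phi_of i hg)), card_Oset]
  have hpe : ¬ p ∣ Nat.card (G ⧸ N) := fun hd => (Fact.out : p.Prime).one_lt.ne'
    (Nat.Coprime.eq_one_of_dvd hi.symm hd)
  have hru : ∀ (l : G →* ℂˣ), (∀ x ∈ N, l x = 1) → ∀ g, IsRU p ((l g : ℂˣ) : ℂ) := by
    intro l hl g
    refine ⟨Nat.card (G ⧸ N), hpe, ?_⟩
    have h1 : g ^ Nat.card (G ⧸ N) ∈ N := by
      rw [← QuotientGroup.eq_one_iff, QuotientGroup.mk_pow]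
      exact pow_card_eq_one'
    rw [← Units.val_pow_eq_pow_val, ← map_pow, hl _ h1, Units.val_one]
  -- the condition in terms of the value at `t`
  have hkey : ∀ (l : G →* ℂˣ), (∀ x ∈ N, l x = 1) →
      ((fun g => (l g : ℂ) * phi p i g) = phi p i ↔ l t ^ m = 1) := by
    intro l hl
    let c : G →* ResidueField V :=
      { toFun := fun g => residue V ⟨((l g : ℂˣ) : ℂ), (hru l hl g).mem⟩
        map_one' := by
          have : (⟨((l 1 : ℂˣ) : ℂ), (hru l hl 1).mem⟩ : V) = 1 := Subtype.ext (by simp)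
          rw [this, map_one]
        map_mul' := fun a b => by
          rw [← map_mul]
          congr 1
          apply Subtype.ext
          simp }
    have hcl : ∀ g, H657.lift p (c g) = ((l g : ℂˣ) : ℂ) := fun g =>
      lift_residue (z := (⟨((l g : ℂˣ) : ℂ), (hru l hl g).mem⟩ : V)) (hru l hl g)
    have hcN : ∀ n ∈ N, c n = 1 := by
      intro n hn
      change residue V ⟨((l n : ℂˣ) : ℂ), (hru l hl n).mem⟩ = 1
      have : (⟨((l n : ℂˣ) : ℂ), (hru l hl n).mem⟩ : V) = 1 := Subtype.ext (by simp [hl n hn])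
      rw [this, map_one]
    let il : IBr V G := ⟨fun g => c g * i.1 g, i.deg, tw c i.rep, tw_irr c i.rep_irr, fun g => by
      rw [tw_apply, map_smul, smul_eq_mul, i.trace_rep]⟩
    have hil : phi p il = fun g => (l g : ℂ) * phi p i g := by
      funext g
      by_cases hgp : IsPRegular p g
      · rw [phi_eq_bc il (tw c i.rep) (tw_irr c i.rep_irr) (fun g => by
          rw [tw_apply, map_smul, smul_eq_mul, i.trace_rep]) hgp,
          bc_smul i.rep (tw c i.rep) (c_ru c g) hgp (tw_apply c i.rep g), hcl, phi_of i hgp]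
      · rw [phi_of_not _ hgp, phi_of_not _ hgp, mul_zero]
    have h1 : (fun g => (l g : ℂ) * phi p i g) = phi p i ↔ ∀ g, c g * i.1 g = i.1 g := by
      rw [← hil]
      constructor
      · intro h2 g
        exact congrFun (congrArg Subtype.val (phi_injective hM hV h2)) g
      · intro h2
        congr 1
        exact Subtype.ext (funext h2)
    rw [h1]
    have h3 := fix_iff hg i.rep_irr ht c hcN
    simp only [i.trace_rep] at h3
    rw [h3]
    constructor
    · intro h4
      apply Units.ext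
      rw [Units.val_pow_eq_pow_val, ← hcl t, Units.val_one]
      have h5 : ∀ k : ℕ, H657.lift p (c t) ^ k = H657.lift p (c t ^ k) := by
        intro k
        induction k with
        | zero => rw [pow_zero, pow_zero, lift_one']
        | succ k ih =>
          rw [pow_succ, pow_succ, ih, lift_mul (by rw [← map_pow]; exact c_ru c _) (c_ru c t)]
      rw [h5, h4, lift_one']
    · intro h4
      rw [← map_pow]
      change residue V ⟨((l (t ^ m) : ℂˣ) : ℂ), (hru l hl _).mem⟩ = 1
      have : (⟨((l (t ^ m) : ℂˣ) : ℂ), (hru l hl (t ^ m)).mem⟩ : V) = 1 :=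
        Subtype.ext (by simp [map_pow, h4])
      rw [this, map_one]
  -- counting
  have hord : orderOf ((t : G ⧸ N)) = Nat.card (G ⧸ N) := orderOf_eq_card_of_forall_mem_zpowers htg
  have hmd : m ∣ Nat.card (G ⧸ N) := by
    have h1 : t ^ Nat.card (G ⧸ N) ∈ N := by
      rw [← QuotientGroup.eq_one_iff, QuotientGroup.mk_pow]
      exact pow_card_eq_one'
    have h2 := T_mod τ hg.per (Nat.card (G ⧸ N))
    rw [T_mem τ h1] at h2
    apply Nat.dvd_of_mod_eq_zero
    by_contra h0
    exact hg.min _ (Nat.pos_of_ne_zero h0) (Nat.mod_lt _ hg.pos) h2.symm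
  have hm0 : NeZero m := ⟨hg.pos.ne'⟩
  rw [← Complex.card_rootsOfUnity m]
  symm
  let Ψ : {l : G →* ℂˣ // (∀ x ∈ N, l x = 1) ∧ (fun g => (l g : ℂ) * phi p i g) = phi p i} → rootsOfUnity m ℂ :=
    fun l => ⟨l.1 t, (mem_rootsOfUnity m _).2 ((hkey l.1 l.2.1).1 l.2.2)⟩
  refine Nat.card_congr (Equiv.ofBijective Ψ ⟨?_, ?_⟩)
  · intro l l' hll
    have h1 : l.1 t = l'.1 t := congrArg Subtype.val hll
    apply Subtype.ext
    apply MonoidHom.ext
    intro g
    obtain ⟨s, n, hn, rfl⟩ := ht g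
    rw [map_mul, map_mul, map_pow, map_pow, h1, l.2.1 n hn, l'.2.1 n hn]
  · rintro ⟨ζ, hζ⟩
    rw [mem_rootsOfUnity] at hζ
    have hdvd : orderOf ζ ∣ orderOf ((t : G ⧸ N)) := by
      rw [hord]
      exact (orderOf_dvd_of_pow_eq_one hζ).trans hmd
    let l : G →* ℂˣ := (monoidHomOfForallMemZpowers htg hdvd).comp (QuotientGroup.mk' N)
    have hlt : l t = ζ := monoidHomOfForallMemZpowers_apply_gen htg hdvd
    have hlN : ∀ x ∈ N, l x = 1 := by
      intro x hx
      change (monoidHomOfForallMemZpowers htg hdvd) ((x : G ⧸ N)) = 1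
      rw [(QuotientGroup.eq_one_iff x).2 hx, map_one]
    refine ⟨⟨l, hlN, (hkey l hlN).2 (by rw [hlt, hζ])⟩, Subtype.ext hlt⟩

end Res

end Cfsg.Agent.H112.Clif
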