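import Cfsg.Agent.H657.IBrBlock

/-!
# Clifford theory for a cyclic quotient (helper112, task 5172)

Abstract part over an algebraically closed field `K`: `G` finite, `N` normal, every element of `G` is `t ^ s * n`.

* `exists_irr_sub` : an irreducible subrepresentation, on `Fin d → K`;
* `cr` : the conjugate representation of `N`;
* `Good`, `exists_good` : `W` is the sum of the `t ^ s f(U)`, `s < m`, pairwise non-isomorphic.
-/

set_option autoImplicit false
set_option linter.unusedSectionVars false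

namespace Cfsg.Agent.H112.Clif

open Module Cfsg IsLocalRing Cfsg.Agent.H657

section Irr

variable {K : Type*} [Field K] {G : Type*} [Group G] {U W : Type*} [AddCommGroup U] [Module K U]
  [AddCommGroup W] [Module K W]

theorem irr_of (σ : Representation K G W) [Nontrivial W]
    (h : ∀ A : Submodule K W, (∀ g, ∀ w ∈ A, σ g w ∈ A) → A = ⊥ ∨ A = ⊤) : σ.IsIrreducible := by
  have hnt : Nontrivial (Subrepresentation σ) := by
    refine ⟨⟨⊥, ⊤, fun h0 => ?_⟩⟩
    obtain ⟨v, hv⟩ := exists_ne (0 : W)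
    apply hv
    have h1 : v ∈ (⊤ : Subrepresentation σ) := Submodule.mem_top
    rw [← h0] at h1
    exact (Submodule.mem_bot K).1 h1
  refine { eq_bot_or_eq_top := fun A => ?_ }
  rcases h A.toSubmodule (fun g w hw => A.apply_mem_toSubmodule g hw) with h1 | h1
  · exact Or.inl (Subrepresentation.toSubmodule_injective h1)
  · exact Or.inr (Subrepresentation.toSubmodule_injective h1)

theorem irr_sub {σ : Representation K G W} (hσ : σ.IsIrreducible) (A : Submodule K W)
    (hA : ∀ g, ∀ w ∈ A, σ g w ∈ A) : A = ⊥ ∨ A = ⊤ := by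
  rcases hσ.eq_bot_or_eq_top ⟨A, fun g w hw => hA g w hw⟩ with h | h
  · exact Or.inl (congrArg Subrepresentation.toSubmodule h)
  · exact Or.inr (congrArg Subrepresentation.toSubmodule h)

theorem irr_nontrivial {σ : Representation K G W} (hσ : σ.IsIrreducible) : Nontrivial W := by
  by_contra hcon
  rw [not_nontrivial_iff_subsingleton] at hcon
  obtain ⟨A, B, hAB⟩ := hσ.toNontrivial
  apply hAB
  ext x
  have : x = 0 := Subsingleton.elim _ _
  rw [this]
  exact ⟨fun _ => B.toSubmodule.zero_mem, fun _ => A.toSubmodule.zero_mem⟩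

theorem inj_of_irr {τ : Representation K G U} {σ : Representation K G W} (hτ : τ.IsIrreducible)
    {f : U →ₗ[K] W} (hf : ∀ g u, f (τ g u) = σ g (f u)) (h0 : f ≠ 0) : Function.Injective f := by
  rcases irr_sub hτ (LinearMap.ker f) (fun g u hu => by
    rw [LinearMap.mem_ker] at hu ⊢
    rw [hf, hu, map_zero]) with h | h
  · exact LinearMap.ker_eq_bot.1 h
  · exact absurd (LinearMap.ker_eq_top.1 h) h0

theorem surj_of_irr {τ : Representation K G U} {σ : Representation K G W} (hσ : σ.IsIrreducible)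
    {f : U →ₗ[K] W} (hf : ∀ g u, f (τ g u) = σ g (f u)) (h0 : f ≠ 0) : Function.Surjective f := by
  rcases irr_sub hσ (LinearMap.range f) (fun g w hw => by
    obtain ⟨u, rfl⟩ := hw
    exact ⟨τ g u, hf g u⟩) with h | h
  · exact absurd (LinearMap.range_eq_bot.1 h) h0
  · exact LinearMap.range_eq_top.1 h

theorem schur [IsAlgClosed K] [FiniteDimensional K U] {τ : Representation K G U} (hτ : τ.IsIrreducible)
    {f : U →ₗ[K] U} (hf : ∀ g u, f (τ g u) = τ g (f u)) : ∃ c : K, ∀ u, f u = c • u := by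
  have := irr_nontrivial hτ
  obtain ⟨c, hc⟩ := Module.End.exists_eigenvalue f
  refine ⟨c, fun u => ?_⟩
  rcases irr_sub hτ (Module.End.eigenspace f c) (fun g u hu => by
    rw [Module.End.mem_eigenspace_iff] at hu ⊢
    rw [hf, hu, map_smul]) with h | h
  · exact absurd h hc
  · have h1 : u ∈ Module.End.eigenspace f c := by rw [h]; trivial
    exact Module.End.mem_eigenspace_iff.1 h1

/-- an irreducible subrepresentation -/
theorem exists_irr_sub [FiniteDimensional K W] [Nontrivial W] (σ : Representation K G W) :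
    ∃ (d : ℕ) (τ : Representation K G (Fin d → K)) (f : (Fin d → K) →ₗ[K] W),
      τ.IsIrreducible ∧ Function.Injective f ∧ ∀ g u, f (τ g u) = σ g (f u) := by
  classical
  have hex : ∃ n : ℕ, ∃ A : Submodule K W, A ≠ ⊥ ∧ (∀ g, ∀ w ∈ A, σ g w ∈ A) ∧ finrank K A = n :=
    ⟨_, ⊤, top_ne_bot, fun _ _ _ => trivial, rfl⟩
  obtain ⟨A, hA0, hA, hAn⟩ := Nat.find_spec hex
  have hmin : ∀ B ≤ A, (∀ g, ∀ w ∈ B, σ g w ∈ B) → B = ⊥ ∨ B = A := by
    intro B hB hBi
    by_cases h0 : B = ⊥
    · exact Or.inl h0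
    · right
      have h1 := Nat.find_min' hex ⟨B, h0, hBi, rfl⟩
      exact Submodule.eq_of_le_of_finrank_le hB (by rw [hAn]; exact h1)
  let SA : Subrepresentation σ := ⟨A, fun g w hw => hA g w hw⟩
  let ρ : Representation K G A := SA.toRepresentation
  have hρ : ∀ g (a : A), ((ρ g a : A) : W) = σ g a := fun g a => rfl
  have hAnt : Nontrivial A := (Submodule.nontrivial_iff_ne_bot).2 hA0
  have hρi : ρ.IsIrreducible := by
    apply irr_of
    intro B hB
    rcases hmin (B.map A.subtype) (Submodule.map_subtype_le A B) (by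
      rintro g _ ⟨b, hb, rfl⟩
      exact ⟨ρ g b, hB g b hb, hρ g b⟩) with h | h
    · left
      rw [eq_bot_iff]
      intro x hx
      have h1 : (x : W) ∈ B.map A.subtype := ⟨x, hx, rfl⟩
      rw [h, Submodule.mem_bot] at h1
      exact Subtype.ext h1
    · right
      rw [eq_top_iff]
      intro x _
      have h1 : (x : W) ∈ B.map A.subtype := by rw [h]; exact x.2
      obtain ⟨y, hy, hyx⟩ := h1
      have : y = x := Subtype.ext hyx
      exact this ▸ hy
  let b := finBasis K A
  let e : A ≃ₗ[K] (Fin (finrank K A) → K) := b.equivFun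
  refine ⟨finrank K A, Factors.transport e ρ, A.subtype ∘ₗ e.symm.toLinearMap,
    Factors.isIrreducible_of_equiv (Factors.transportEquiv e ρ) hρi, ?_, ?_⟩
  · exact A.injective_subtype.comp e.symm.injective
  · intro g u
    rw [Factors.transport_apply]
    simp only [LinearMap.comp_apply, LinearEquiv.coe_coe, LinearEquiv.conj_apply_apply,
      LinearEquiv.symm_apply_apply, Submodule.subtype_apply]
    exact hρ g _

/-- intertwining maps and the group algebra -/
theorem map_alg {τ : Representation K G U} {σ : Representation K G W} {f : U →ₗ[K] W}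
    (hf : ∀ g u, f (τ g u) = σ g (f u)) (a : MonoidAlgebra K G) (u : U) :
    f (τ.asAlgebraHom a u) = σ.asAlgebraHom a (f u) := by
  induction a using MonoidAlgebra.induction_linear with
  | zero => simp
  | add x y hx hy => simp [hx, hy]
  | single x c => simp [hf]

end Irr

section Conj

variable {K : Type*} [Field K] {G : Type*} [Group G] {N : Subgroup G} [N.Normal]
  {U W : Type*} [AddCommGroup U] [Module K U] [AddCommGroup W] [Module K W]

/-- restriction to `N` -/
def rs (N : Subgroup G) (σ : Representation K G W) : Representation K N W := σ.comp N.subtype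

omit [N.Normal] in
theorem rs_apply (σ : Representation K G W) (n : N) : rs N σ n = σ n := rfl

/-- the conjugate representation `n ↦ τ (g⁻¹ n g)` -/
def cr (g : G) (τ : Representation K N U) : Representation K N U :=
  τ.comp (MulAut.conjNormal g⁻¹ : N ≃* N).toMonoidHom

theorem cr_apply (g : G) (τ : Representation K N U) (n : N) : cr g τ n = τ (MulAut.conjNormal g⁻¹ n) := rfl

theorem cr_irr (g : G) {τ : Representation K N U} (h : τ.IsIrreducible) : (cr g τ).IsIrreducible := by
  have := irr_nontrivial h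
  apply irr_of
  intro A hA
  apply irr_sub h A
  intro n w hw
  have h1 := hA (MulAut.conjNormal g n) w hw
  rw [cr_apply, ← MulAut.mul_apply, ← map_mul, inv_mul_cancel, map_one, MulAut.one_apply] at h1
  exact h1

theorem cr_sub {τ : Representation K N U} {σ : Representation K G W} {f : U →ₗ[K] W}
    (hf : ∀ (n : N) u, f (τ n u) = σ n (f u)) (g : G) (n : N) (u : U) :
    σ g (f (cr g τ n u)) = σ n (σ g (f u)) := by
  rw [cr_apply, hf]
  rw [← Module.End.mul_apply, ← Module.End.mul_apply, ← map_mul, ← map_mul]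
  congr 2
  rw [MulAut.conjNormal_apply]
  group

/-! ### traces of the conjugate representations -/

/-- trace function of the conjugate representation -/
noncomputable def T (τ : Representation K N U) (g : G) : N → K := fun x => LinearMap.trace K U (cr g τ x)

theorem cr_mul (τ : Representation K N U) (g h : G) (x : N) :
    cr (g * h) τ x = cr h τ (MulAut.conjNormal g⁻¹ x) := by
  rw [cr_apply, cr_apply, mul_inv_rev, map_mul, MulAut.mul_apply]

theorem T_mul (τ : Representation K N U) (g h : G) (x : N) :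
    T τ (g * h) x = T τ h (MulAut.conjNormal g⁻¹ x) := by
  rw [T, T, cr_mul]

theorem T_mem (τ : Representation K N U) {n : G} (hn : n ∈ N) : T τ n = T τ 1 := by
  funext x
  rw [T, T, cr_apply, cr_apply]
  have h1 : (MulAut.conjNormal n⁻¹ x : N) = (⟨n, hn⟩ : N)⁻¹ * x * (⟨n, hn⟩ : N) := by
    apply Subtype.ext
    rw [MulAut.conjNormal_apply]
    simp
  rw [h1, inv_one, map_one, MulAut.one_apply, map_mul τ, map_mul τ, LinearMap.trace_mul_comm, ← mul_assoc,
    ← map_mul τ, mul_inv_cancel, map_one, one_mul]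

theorem T_right (τ : Representation K N U) {g h : G} (hh : T τ h = T τ 1) : T τ (g * h) = T τ g := by
  funext x
  rw [T_mul, hh, ← T_mul, mul_one]

theorem T_left (τ : Representation K N U) {g h h' : G} (hh : T τ (g * h) = T τ (g * h')) : T τ h = T τ h' := by
  funext x
  have h1 := congrFun hh (MulAut.conjNormal g x)
  rw [T_mul, T_mul, ← MulAut.mul_apply, ← map_mul, inv_mul_cancel, map_one, MulAut.one_apply] at h1
  exact h1

theorem exists_per [Finite G] (τ : Representation K N U) (t : G) :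
    ∃ m, 0 < m ∧ T τ (t ^ m) = T τ 1 ∧ ∀ s, 0 < s → s < m → T τ (t ^ s) ≠ T τ 1 := by
  classical
  have hex : ∃ m, 0 < m ∧ T τ (t ^ m) = T τ 1 := ⟨orderOf t, orderOf_pos t, by rw [pow_orderOf_eq_one]⟩
  refine ⟨Nat.find hex, (Nat.find_spec hex).1, (Nat.find_spec hex).2, fun s hs1 hs2 h => ?_⟩
  exact Nat.find_min hex hs2 ⟨hs1, h⟩

theorem T_mod (τ : Representation K N U) {t : G} {m : ℕ} (hm : T τ (t ^ m) = T τ 1) (s : ℕ) :
    T τ (t ^ s) = T τ (t ^ (s % m)) := by
  have h1 : ∀ k : ℕ, T τ (t ^ (m * k)) = T τ 1 := by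
    intro k
    induction k with
    | zero => rw [mul_zero, pow_zero]
    | succ k ih => rw [mul_add, pow_add, mul_one, T_right τ hm, ih]
  conv_lhs => rw [← Nat.mod_add_div s m]
  rw [pow_add, T_right τ (h1 _)]

theorem T_inj (τ : Representation K N U) {t : G} {m : ℕ} (hm : ∀ s, 0 < s → s < m → T τ (t ^ s) ≠ T τ 1)
    {s s' : ℕ} (hs : s < m) (hs' : s' < m) (h : T τ (t ^ s) = T τ (t ^ s')) : s = s' := by
  by_contra hne
  rcases Nat.lt_or_gt_of_ne hne with h1 | h1
  · apply hm (s' - s) (by omega) (by omega)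
    apply T_left τ (g := t ^ s)
    rw [← pow_add, show s + (s' - s) = s' by omega, mul_one, h]
  · apply hm (s - s') (by omega) (by omega)
    apply T_left τ (g := t ^ s')
    rw [← pow_add, show s' + (s - s') = s by omega, mul_one, h]

end Conj

section Good

variable {K : Type*} [Field K] [IsAlgClosed K] {G : Type*} [Group G] {N : Subgroup G} [N.Normal]
  {d : ℕ} {W : Type*} [AddCommGroup W] [Module K W]

/-- a good embedding of an irreducible representation of `N` -/
structure Good (t : G) (m : ℕ) (τ : Representation K N (Fin d → K)) (σ : Representation K G W)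
    (f : (Fin d → K) →ₗ[K] W) : Prop where
  irr : τ.IsIrreducible
  pos : 0 < m
  per : T τ (t ^ m) = T τ 1
  min : ∀ s, 0 < s → s < m → T τ (t ^ s) ≠ T τ 1
  int : ∀ (n : N) u, f (τ n u) = σ n (f u)
  ne : f ≠ 0
  inv : ∀ u, ∃ u', σ (t ^ m) (f u) = f u'

theorem exists_good [FiniteDimensional K W] {t : G} {m : ℕ} {τ : Representation K N (Fin d → K)}
    (σ : Representation K G W) (hirr : τ.IsIrreducible) (hpos : 0 < m) (hper : T τ (t ^ m) = T τ 1)
    (hmin : ∀ s, 0 < s → s < m → T τ (t ^ s) ≠ T τ 1) {f₀ : (Fin d → K) →ₗ[K] W} (h0 : f₀ ≠ 0)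
    (hint : ∀ (n : N) u, f₀ (τ n u) = σ n (f₀ u)) : ∃ f : (Fin d → K) →ₗ[K] W, Good t m τ σ f := by
  have h1 : ∀ n, LinearMap.trace K _ (cr (t ^ m) τ n) = LinearMap.trace K _ (cr (1 : G) τ n) := congrFun hper
  obtain ⟨e, he⟩ := equiv_of_trace (cr (t ^ m) τ) (cr (1 : G) τ) (cr_irr _ hirr) (cr_irr _ hirr) h1
  have he' : ∀ n u, e (cr (t ^ m) τ n u) = τ n (e u) := by
    intro n u
    rw [he, cr_apply, inv_one, map_one, MulAut.one_apply]
  have hes : ∀ n u, e.symm (τ n u) = cr (t ^ m) τ n (e.symm u) := by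
    intro n u
    rw [LinearEquiv.symm_apply_eq, he', LinearEquiv.apply_symm_apply]
  let E : Submodule K ((Fin d → K) →ₗ[K] W) :=
    { carrier := {f | ∀ (n : N) u, f (τ n u) = σ n (f u)}
      zero_mem' := by intro n u; simp
      add_mem' := by
        intro a b ha hb n u
        rw [LinearMap.add_apply, LinearMap.add_apply, ha, hb, map_add]
      smul_mem' := by
        intro c a ha n u
        rw [LinearMap.smul_apply, LinearMap.smul_apply, ha, map_smul] }
  have hE : ∀ f, f ∈ E ↔ ∀ (n : N) u, f (τ n u) = σ n (f u) := fun f => Iff.rfl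
  let Θ : ((Fin d → K) →ₗ[K] W) →ₗ[K] ((Fin d → K) →ₗ[K] W) :=
    { toFun := fun f => (σ (t ^ m)) ∘ₗ f ∘ₗ e.symm.toLinearMap
      map_add' := by intro a b; ext u; simp
      map_smul' := by intro c a; ext u; simp }
  have hΘ : ∀ f u, Θ f u = σ (t ^ m) (f (e.symm u)) := fun f u => rfl
  have hΘE : ∀ f ∈ E, Θ f ∈ E := by
    intro f hf n u
    rw [hΘ, hes, cr_sub hf, hΘ]
  have : Nontrivial E := ⟨⟨⟨f₀, hint⟩, 0, fun h => h0 (congrArg Subtype.val h)⟩⟩
  obtain ⟨c, hc⟩ := Module.End.exists_eigenvalue (Θ.restrict hΘE)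
  obtain ⟨v, hv⟩ := hc.exists_hasEigenvector
  refine ⟨v.1, hirr, hpos, hper, hmin, v.2, fun h => hv.2 (Subtype.ext h), fun u => ?_⟩
  have h2 := hv.apply_eq_smul
  have h3 : Θ v.1 = c • v.1 := congrArg Subtype.val h2
  refine ⟨c • e u, ?_⟩
  have h4 := LinearMap.congr_fun h3 (e u)
  rw [hΘ, LinearEquiv.symm_apply_apply] at h4
  rw [h4, LinearMap.smul_apply, map_smul]

variable {t : G} {m : ℕ} {τ : Representation K N (Fin d → K)} {σ : Representation K G W}
    {f : (Fin d → K) →ₗ[K] W}

theorem Good.inj (h : Good t m τ σ f) : Function.Injective f :=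
  inj_of_irr (σ := rs N σ) h.irr h.int h.ne

/-- the sum map -/
noncomputable def Phi (t : G) (m : ℕ) (σ : Representation K G W) (f : (Fin d → K) →ₗ[K] W) :
    (Fin m → (Fin d → K)) →ₗ[K] W := ∑ s : Fin m, (σ (t ^ (s : ℕ))) ∘ₗ f ∘ₗ LinearMap.proj s

theorem Phi_apply (u : Fin m → (Fin d → K)) : Phi t m σ f u = ∑ s : Fin m, σ (t ^ (s : ℕ)) (f (u s)) := by
  simp [Phi]

theorem Phi_single (s : Fin m) (u : Fin d → K) : Phi t m σ f (Pi.single s u) = σ (t ^ (s : ℕ)) (f u) := by
  rw [Phi_apply, Finset.sum_eq_single s]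
  · rw [Pi.single_eq_same]
  · intro b _ hb
    rw [Pi.single_eq_of_ne hb, map_zero, map_zero]
  · intro h
    exact absurd (Finset.mem_univ _) h

theorem Phi_N (h : Good t m τ σ f) (n : N) (u : Fin m → (Fin d → K)) :
    Phi t m σ f (fun s => cr (t ^ (s : ℕ)) τ n (u s)) = σ n (Phi t m σ f u) := by
  rw [Phi_apply, Phi_apply, map_sum]
  exact Finset.sum_congr rfl fun s _ => cr_sub h.int _ _ _

theorem sig_inj (σ : Representation K G W) (g : G) {w : W} (h : σ g w = 0) : w = 0 := by
  have h1 : σ g⁻¹ (σ g w) = w := by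
    rw [← Module.End.mul_apply, ← map_mul, inv_mul_cancel, map_one, Module.End.one_apply]
  rw [← h1, h, map_zero]

theorem Good.Phi_inj (h : Good t m τ σ f) : Function.Injective (Phi t m σ f) := by
  classical
  rw [← LinearMap.ker_eq_bot, LinearMap.ker_eq_bot']
  intro u hu
  funext s₀
  obtain ⟨a, ha⟩ := Blocks.ModularTraces.exists_density (fun s : Fin m => cr (t ^ (s : ℕ)) τ)
    (fun s => cr_irr _ h.irr) (fun i j hij => ⟨fun e => hij (by
      apply Fin.ext
      apply T_inj τ h.min i.2 j.2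
      funext x
      rw [T, T]
      have h1 : cr (t ^ (j : ℕ)) τ x = e.toLinearEquiv.conj (cr (t ^ (i : ℕ)) τ x) := by
        apply LinearMap.ext
        intro v
        rw [LinearEquiv.conj_apply_apply]
        have := LinearMap.congr_fun (e.isIntertwining' x) (e.toLinearEquiv.symm v)
        have h3 : e.toLinearEquiv (cr (t ^ (i : ℕ)) τ x (e.toLinearEquiv.symm v)) =
          cr (t ^ (j : ℕ)) τ x (e.toLinearEquiv (e.toLinearEquiv.symm v)) := this
        rw [h3, LinearEquiv.apply_symm_apply]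
      rw [h1, LinearMap.trace_conj'])⟩) (fun s => if s = s₀ then 1 else 0)
  have h1 : (rs N σ).asAlgebraHom a (Phi t m σ f u) =
      σ (t ^ (s₀ : ℕ)) (f (u s₀)) := by
    rw [Phi_apply, map_sum, Finset.sum_eq_single s₀]
    · have h2 := map_alg (τ := cr (t ^ (s₀ : ℕ)) τ) (σ := rs N σ) (f := (σ (t ^ (s₀ : ℕ))) ∘ₗ f)
        (fun n u => cr_sub h.int _ _ _) a (u s₀)
      rw [ha, if_pos rfl, Module.End.one_apply] at h2
      exact h2.symm
    · intro s _ hs
      have h2 := map_alg (τ := cr (t ^ (s : ℕ)) τ) (σ := rs N σ) (f := (σ (t ^ (s : ℕ))) ∘ₗ f)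
        (fun n u => cr_sub h.int _ _ _) a (u s)
      rw [ha, if_neg hs, LinearMap.zero_apply, map_zero] at h2
      exact h2.symm
    · intro h
      exact absurd (Finset.mem_univ _) h
  rw [hu, map_zero] at h1
  have h3 := sig_inj σ _ h1.symm
  exact h.inj (by rw [h3, Pi.zero_apply, map_zero])

theorem Good.Phi_surj (h : Good t m τ σ f) (hσ : σ.IsIrreducible)
    (ht : ∀ g : G, ∃ s : ℕ, ∃ n ∈ N, g = t ^ s * n) : Function.Surjective (Phi t m σ f) := by
  classical
  have hN : ∀ n ∈ N, ∀ w ∈ LinearMap.range (Phi t m σ f), σ n w ∈ LinearMap.range (Phi t m σ f) := by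
    rintro n hn _ ⟨u, rfl⟩
    exact ⟨_, Phi_N h ⟨n, hn⟩ u⟩
  have htt : ∀ w ∈ LinearMap.range (Phi t m σ f), σ t w ∈ LinearMap.range (Phi t m σ f) := by
    rintro _ ⟨u, rfl⟩
    rw [Phi_apply, map_sum]
    refine Submodule.sum_mem _ fun s _ => ?_
    rw [← Module.End.mul_apply, ← map_mul, ← pow_succ']
    by_cases hs : (s : ℕ) + 1 < m
    · exact ⟨Pi.single ⟨s + 1, hs⟩ (u s), Phi_single _ _⟩
    · have hs' : (s : ℕ) + 1 = m := by have := s.2; omega
      rw [hs']
      obtain ⟨u', hu'⟩ := h.inv (u s)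
      refine ⟨Pi.single ⟨0, h.pos⟩ u', ?_⟩
      rw [Phi_single, hu']
      simp
  have htp : ∀ s : ℕ, ∀ w ∈ LinearMap.range (Phi t m σ f), σ (t ^ s) w ∈ LinearMap.range (Phi t m σ f) := by
    intro s
    induction s with
    | zero => intro w hw; simpa using hw
    | succ s ih =>
      intro w hw
      rw [pow_succ', map_mul, Module.End.mul_apply]
      exact htt _ (ih w hw)
  rcases irr_sub hσ (LinearMap.range (Phi t m σ f)) (fun g w hw => by
    obtain ⟨s, n, hn, rfl⟩ := ht g
    rw [map_mul, Module.End.mul_apply]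
    exact htp s _ (hN n hn w hw)) with h1 | h1
  · exfalso
    apply h.ne
    rw [LinearMap.range_eq_bot] at h1
    ext1
    ext1
    rename_i i
    have h2 := LinearMap.congr_fun h1 (Pi.single (⟨0, h.pos⟩ : Fin m) (Pi.single i 1 : Fin d → K))
    rw [Phi_single] at h2
    simpa using h2
  · exact LinearMap.range_eq_top.1 h1

end Good

end Cfsg.Agent.H112.Clif
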